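import Mathlib

/-!
# A finite group of "affine" maps of a free group fixes a vertex (algebraic form)

`Q` a finite group acting on `X`, `F = FreeGroup X` with the induced action
`q • f = FreeGroup.map (q • ·) f`.  Every map `c : Q → F` with
`c (q * q') = c q * q • c q'` is a coboundary: `c q = w * (q • w)⁻¹`.
Equivalently: a finite subgroup of `F ⋊ Q` is conjugate by an element of `F` into `Q`.
The proof uses only reduced words (`toWord`, `IsReduced`, `norm`).
-/

set_option autoImplicit false

namespace Cfsg.Agent.Lib.Helper91.LSF

universe u v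

variable {X : Type u}

/-- renaming of the letters of a word -/
def renW (f : X → X) (L : List (X × Bool)) : List (X × Bool) := L.map fun p => (f p.1, p.2)

theorem isReduced_renW {f : X → X} (hf : Function.Injective f) {L : List (X × Bool)}
    (h : FreeGroup.IsReduced L) : FreeGroup.IsReduced (renW f L) := by
  unfold FreeGroup.IsReduced renW at *
  rw [List.isChain_map]
  exact h.imp (fun a b hab h1 => hab (hf h1))

theorem toWord_map_inj [DecidableEq X] {f : X → X} (hf : Function.Injective f) (x : FreeGroup X) :
    (FreeGroup.map f x).toWord = renW f x.toWord := by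
  conv_lhs => rw [← FreeGroup.mk_toWord (x := x)]
  rw [FreeGroup.map.mk, FreeGroup.toWord_mk]
  exact (isReduced_renW hf FreeGroup.isReduced_toWord).reduce_eq

theorem norm_map_inj [DecidableEq X] {f : X → X} (hf : Function.Injective f) (x : FreeGroup X) :
    (FreeGroup.map f x).norm = x.norm := by
  unfold FreeGroup.norm
  rw [toWord_map_inj hf]
  simp [renW]

/-- no cancellation in `u⁻¹ * v` when the first letters differ -/
theorem norm_inv_mul_of_head_ne [DecidableEq X] (u w : FreeGroup X) (a b : X × Bool) (u' w' : List (X × Bool))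
    (hu : u.toWord = a :: u') (hw : w.toWord = b :: w') (hab : a ≠ b) :
    (u⁻¹ * w).norm = u.norm + w.norm := by
  have h1 : FreeGroup.IsReduced (FreeGroup.invRev (a :: u')) := by
    have := FreeGroup.isReduced_toWord (x := u⁻¹)
    rwa [FreeGroup.toWord_inv, hu] at this
  have h2 : FreeGroup.IsReduced (b :: w') := by
    have := FreeGroup.isReduced_toWord (x := w)
    rwa [hw] at this
  have h3 : FreeGroup.IsReduced (FreeGroup.invRev (a :: u') ++ b :: w') := by
    rw [FreeGroup.invRev_cons] at h1 ⊢
    have hs : FreeGroup.invRev [a] = [(a.1, !a.2)] := by simp [FreeGroup.invRev]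
    rw [hs] at h1 ⊢
    have h4 : FreeGroup.IsReduced ([(a.1, !a.2)] ++ b :: w') := by
      rw [List.singleton_append, FreeGroup.isReduced_cons_cons]
      refine ⟨fun h => ?_, h2⟩
      simp only at h ⊢
      by_contra hne
      apply hab
      apply Prod.ext h
      cases ha : a.2 <;> cases hb : b.2 <;> simp_all
    exact FreeGroup.IsReduced.append_overlap h1 h4 (by simp)
  unfold FreeGroup.norm
  rw [FreeGroup.toWord_mul, FreeGroup.toWord_inv, hu, hw, h3.reduce_eq]
  simp [FreeGroup.invRev_length]

/-- the shape of a word whose first letter is `a` and whose inverse has first letter `e` -/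
theorem toWord_shape [DecidableEq X] (f : FreeGroup X) (a e : X × Bool) (r r' : List (X × Bool))
    (hf : f.toWord = a :: r) (hf' : (f⁻¹).toWord = e :: r') (hne : a ≠ (e.1, !e.2)) :
    ∃ m : List (X × Bool), f.toWord = a :: (m ++ [(e.1, !e.2)]) := by
  have h1 : f.toWord = FreeGroup.invRev (e :: r') := by
    have := congrArg FreeGroup.invRev hf'
    rw [FreeGroup.toWord_inv, FreeGroup.invRev_invRev] at this
    exact this
  rw [FreeGroup.invRev_cons] at h1
  have hs : FreeGroup.invRev [e] = [(e.1, !e.2)] := by simp [FreeGroup.invRev]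
  rw [hs] at h1
  rw [hf] at h1
  cases hr : FreeGroup.invRev r' with
  | nil =>
    rw [hr] at h1
    simp at h1
    exact absurd h1.1 hne
  | cons x m =>
    rw [hr] at h1
    simp only [List.cons_append, List.cons.injEq] at h1
    refine ⟨m, ?_⟩
    rw [hf, h1.2]

section main

variable {Q : Type v} [Group Q] [MulAction Q X]

/-- the action of `Q` on the free group -/
noncomputable def act (q : Q) : FreeGroup X →* FreeGroup X := FreeGroup.map (fun x => q • x)

theorem act_inj (q : Q) : Function.Injective (fun x : X => q • x) := MulAction.injective q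

theorem act_one (f : FreeGroup X) : act (1 : Q) f = f := by
  unfold act
  have : (fun x : X => (1 : Q) • x) = id := by funext x; simp
  rw [this]; exact FreeGroup.map.id f

theorem act_mul (q q' : Q) (f : FreeGroup X) : act (q * q') f = act q (act q' f) := by
  unfold act
  rw [FreeGroup.map.comp]
  have h : (fun x : X => (q * q') • x) = (fun x => q • x) ∘ (fun x => q' • x) := by
    funext x
    simp [mul_smul]
  rw [h]

theorem act_mk (q : Q) (L : List (X × Bool)) :
    act q (FreeGroup.mk L) = FreeGroup.mk (renW (fun x => q • x) L) := by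
  unfold act renW
  exact FreeGroup.map.mk

theorem toWord_act [DecidableEq X] (q : Q) (f : FreeGroup X) :
    (act q f).toWord = renW (fun x => q • x) f.toWord := toWord_map_inj (act_inj q) f

theorem norm_act [DecidableEq X] (q : Q) (f : FreeGroup X) : (act q f).norm = f.norm :=
  norm_map_inj (act_inj q) f

theorem act_eq_one_iff [DecidableEq X] (q : Q) (f : FreeGroup X) : act q f = 1 ↔ f = 1 := by
  rw [← FreeGroup.norm_eq_zero, norm_act, FreeGroup.norm_eq_zero]

theorem exists_coboundary_aux [DecidableEq X] [Fintype Q] :
    ∀ (n : ℕ) (c : Q → FreeGroup X),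
      (∀ q q', c (q * q') = c q * act q (c q')) → (∑ q, (c q).norm) ≤ n →
      ∃ w : FreeGroup X, ∀ q, c q = w * (act q w)⁻¹ := by
  intro n
  induction n with
  | zero =>
    intro c _ hn
    refine ⟨1, fun q => ?_⟩
    have h0 : (c q).norm = 0 := by
      have h1 : (c q).norm ≤ ∑ q, (c q).norm :=
        Finset.single_le_sum (f := fun q => (c q).norm) (fun _ _ => Nat.zero_le _)
          (Finset.mem_univ q)
      omega
    rw [FreeGroup.norm_eq_zero] at h0
    simp [h0]
  | succ n ih =>
    intro c hc hn
    by_cases hall : ∀ q, c q = 1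
    · exact ⟨1, fun q => by simp [hall q]⟩
    push Not at hall
    obtain ⟨q0, hq0⟩ := hall
    -- basic identities
    have hc1 : c 1 = 1 := by
      have := hc 1 1
      rw [one_mul, act_one] at this
      exact mul_left_cancel (a := c 1) (by rw [mul_one]; exact this.symm)
    have hinv : ∀ q, act q (c q⁻¹) = (c q)⁻¹ := by
      intro q
      have := hc q q⁻¹
      rw [mul_inv_cancel, hc1] at this
      exact (eq_inv_of_mul_eq_one_right this.symm)
    have hne_inv : ∀ q, c q ≠ 1 → c q⁻¹ ≠ 1 := by
      intro q hq h1
      have := hinv q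
      rw [h1, map_one] at this
      exact hq (inv_eq_one.mp this.symm)
    -- an element of maximal norm
    obtain ⟨q1, -, hmax⟩ := Finset.exists_max_image Finset.univ (fun q => (c q).norm)
      ⟨q0, Finset.mem_univ q0⟩
    have hq1 : c q1 ≠ 1 := by
      intro h1
      have h2 := hmax q0 (Finset.mem_univ q0)
      rw [h1, FreeGroup.norm_one] at h2
      exact hq0 (FreeGroup.norm_eq_zero.mp (Nat.le_zero.mp h2))
    obtain ⟨a, r1, hr1⟩ : ∃ a r1, (c q1).toWord = a :: r1 := by
      cases h : (c q1).toWord with
      | nil => exact absurd (FreeGroup.toWord_eq_nil_iff.mp h) hq1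
      | cons a r1 => exact ⟨a, r1, rfl⟩
    -- (1) every nontrivial value starts with `a`
    have hstart : ∀ q2, c q2 ≠ 1 → ∃ r, (c q2).toWord = a :: r := by
      intro q2 hq2
      cases h : (c q2).toWord with
      | nil => exact absurd (FreeGroup.toWord_eq_nil_iff.mp h) hq2
      | cons b r2 =>
        by_cases hab : a = b
        · exact ⟨r2, by rw [hab]⟩
        exfalso
        have h1 := norm_inv_mul_of_head_ne (c q1) (c q2) a b r1 r2 hr1 h hab
        have h2 : c (q1⁻¹ * q2) = act q1⁻¹ ((c q1)⁻¹ * c q2) := by
          rw [hc, map_mul, map_inv]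
          congr 1
          have := hinv q1⁻¹
          rw [inv_inv] at this
          rw [this, inv_inv]
        have h3 := hmax (q1⁻¹ * q2) (Finset.mem_univ _)
        rw [h2, norm_act, h1] at h3
        have h4 : 0 < (c q2).norm := by
          rw [Nat.pos_iff_ne_zero, Ne, FreeGroup.norm_eq_zero]; exact hq2
        omega
    -- the letter `a` as a group element
    set al : FreeGroup X := FreeGroup.mk [a] with hal
    have hact_al : ∀ q : Q, act q al = FreeGroup.mk [(q • a.1, a.2)] := by
      intro q; rw [hal, act_mk]; rfl
    -- (2) trivial values fix the letter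
    have hfix : ∀ q, c q = 1 → q • a.1 = a.1 := by
      intro q hq
      have h1 : c (q * q1) = act q (c q1) := by rw [hc, hq, one_mul]
      have h2 : c (q * q1) ≠ 1 := by
        rw [h1]; intro h; exact hq1 ((act_eq_one_iff q _).mp h)
      obtain ⟨r, hr⟩ := hstart _ h2
      rw [h1, toWord_act, hr1] at hr
      simp only [renW, List.map_cons, List.cons.injEq] at hr
      exact congrArg Prod.fst hr.1
    -- (3) nontrivial values have the shape a :: m ++ [(q • a)⁻¹]
    have hshape : ∀ q, c q ≠ 1 → ∃ m : List (X × Bool),
        (c q).toWord = a :: (m ++ [(q • a.1, !a.2)]) := by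
      intro q hq
      obtain ⟨r, hr⟩ := hstart q hq
      obtain ⟨r', hr'⟩ := hstart q⁻¹ (hne_inv q hq)
      have h1 : ((c q)⁻¹).toWord = (q • a.1, a.2) :: renW (fun x => q • x) r' := by
        rw [← hinv q, toWord_act, hr']; rfl
      have hne : a ≠ ((q • a.1, a.2).1, !(q • a.1, a.2).2) := by
        intro h
        have := congrArg Prod.snd h
        simp at this
      exact toWord_shape (c q) a (q • a.1, a.2) r _ hr h1 hne
    -- (4) the conjugated cocycle
    set c' : Q → FreeGroup X := fun q => al⁻¹ * c q * act q al with hc'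
    have hc'coc : ∀ q q', c' (q * q') = c' q * act q (c' q') := by
      intro q q'
      simp only [hc', hc, act_mul, map_mul, map_inv]
      group
    have hle : ∀ q, (c' q).norm ≤ (c q).norm := by
      intro q
      by_cases hq : c q = 1
      · have h1 : act q al = al := by rw [hact_al, hfix q hq]
        simp [hc', hq, h1]
      · obtain ⟨m, hm⟩ := hshape q hq
        have h1 : c q = al * FreeGroup.mk m * (act q al)⁻¹ := by
          rw [hact_al, FreeGroup.inv_mk, hal, FreeGroup.mul_mk, FreeGroup.mul_mk]
          have : FreeGroup.invRev [(q • a.1, a.2)] = [(q • a.1, !a.2)] := by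
            simp [FreeGroup.invRev]
          have hl : [a] ++ m ++ [(q • a.1, !a.2)] = a :: (m ++ [(q • a.1, !a.2)]) := by simp
          rw [this, hl, ← hm, FreeGroup.mk_toWord]
        have h2 : c' q = FreeGroup.mk m := by
          simp only [hc']
          rw [h1]; group
        rw [h2]
        have h3 : (c q).norm = m.length + 2 := by
          unfold FreeGroup.norm; rw [hm]; simp
        have h4 := FreeGroup.norm_mk_le (L₁ := m)
        omega
    have hlt : (c' q0).norm < (c q0).norm := by
      obtain ⟨m, hm⟩ := hshape q0 hq0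
      have h1 : c q0 = al * FreeGroup.mk m * (act q0 al)⁻¹ := by
        rw [hact_al, FreeGroup.inv_mk, hal, FreeGroup.mul_mk, FreeGroup.mul_mk]
        have : FreeGroup.invRev [(q0 • a.1, a.2)] = [(q0 • a.1, !a.2)] := by
          simp [FreeGroup.invRev]
        have hl : [a] ++ m ++ [(q0 • a.1, !a.2)] = a :: (m ++ [(q0 • a.1, !a.2)]) := by simp
        rw [this, hl, ← hm, FreeGroup.mk_toWord]
      have h2 : c' q0 = FreeGroup.mk m := by
        simp only [hc']
        rw [h1]; group
      rw [h2]
      have h3 : (c q0).norm = m.length + 2 := by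
        unfold FreeGroup.norm; rw [hm]; simp
      have h4 := FreeGroup.norm_mk_le (L₁ := m)
      omega
    have hsum : ∑ q, (c' q).norm < ∑ q, (c q).norm :=
      Finset.sum_lt_sum (fun q _ => hle q) ⟨q0, Finset.mem_univ q0, hlt⟩
    obtain ⟨w', hw'⟩ := ih c' hc'coc (by omega)
    refine ⟨al * w', fun q => ?_⟩
    have h1 := hw' q
    simp only [hc'] at h1
    rw [map_mul, mul_inv_rev]
    have h2 : c q = al * (w' * (act q w')⁻¹) * (act q al)⁻¹ := by
      rw [← h1]; group
    rw [h2]; group

/-- **Cocycles of a finite group in a free group on a permuted basis are coboundaries.** -/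
theorem exists_coboundary [Finite Q] (c : Q → FreeGroup X)
    (hc : ∀ q q', c (q * q') = c q * FreeGroup.map (fun x => q • x) (c q')) :
    ∃ w : FreeGroup X, ∀ q, c q = w * (FreeGroup.map (fun x => q • x) w)⁻¹ := by
  classical
  cases nonempty_fintype Q
  exact exists_coboundary_aux (∑ q, (c q).norm) c hc le_rfl

end main

end Cfsg.Agent.Lib.Helper91.LSF
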